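import Groth.Agent.H18Et.UnibranchNormal
import Groth.Agent.H21Desc.EtUnibranch
import Groth.Agent.H18Et.Stalk

/-!
# Geometrically unibranch irreducible schemes: constant sheaves come from the generic point
-/

set_option autoImplicit false
set_option linter.style.haveILetI false
set_option backward.isDefEq.respectTransparency false
set_option backward.isDefEq.respectTransparency.types false

universe u

open CategoryTheory CategoryTheory.Limits AlgebraicGeometry Opposite Topology
open Groth.Agent.H18Et Groth.Agent.H18Et.ConstSheaf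

namespace Groth.Agent.H18UnibrConst

variable {X Z : Scheme.{u}}

theorem genericPoint_unique {W : Scheme.{u}} [IrreducibleSpace X] (h : W ⟶ X) [Etale h] (w q : W)
    [IrreducibleSpace ↥(Spec (W.presheaf.stalk w))] (hq : h q = genericPoint X) (hqw : q ⤳ w) :
    ∀ q' : W, h q' = genericPoint X → q' ⤳ w → q' = q := by
  let g := (W.fromSpecStalk w).base (genericPoint ↥(Spec (W.presheaf.stalk w)))
  have hg : ∀ y : W, h y = genericPoint X → y ⤳ w → y = g := by
    intro y hy hyw
    obtain ⟨z, rfl⟩ := Scheme.range_fromSpecStalk.symm.le hyw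
    have hgy : g ⤳ (W.fromSpecStalk w).base z :=
      (genericPoint_specializes z).map (W.fromSpecStalk w).continuous
    have hgη : h g = genericPoint X :=
      ((hy ▸ hgy.map h.continuous).antisymm (genericPoint_specializes _)).eq
    haveI := locallyQuasiFinite_of_etale h
    have hdis : DiscreteTopology (h ⁻¹' {genericPoint X}) :=
      (h.isDiscrete_preimage_singleton (genericPoint X)).to_subtype
    have hs : (⟨g, hgη⟩ : h ⁻¹' {genericPoint X}) ⤳ ⟨_, hy⟩ :=
      (subtype_specializes_iff _ _).2 hgy
    exact (congrArg Subtype.val (specializes_iff_eq.1 hs)).symm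
  exact fun q' hq' hq'w => (hg q' hq' hq'w).trans (hg q hq hqw).symm

theorem unibranchAlong_of_genericPoint [IrreducibleSpace X]
    (hN : ∀ (W : Scheme.{u}) (h : W ⟶ X) [Etale h] (w : W), IrreducibleSpace ↥(Spec (W.presheaf.stalk w))) (f : Z ⟶ X) [IsPreimmersion f]
    (hη : genericPoint X ∈ Set.range f.base) : UnibranchAlong f := by
  suffices H : ∀ (W : Scheme.{u}) (h : W ⟶ X) [Etale h] [IsAffine W] (w : W),
      ∃ c₀ : ↥(pullback h _), ∀ C, IsClopen C → c₀ ∈ C →
        w ∉ closure ((pullback.fst h _).base '' Cᶜ) from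
    fun W hW w => @H W.left W.hom W.prop hW w
  intro W h _ _ w
  haveI := hN W h w
  let p := pullback.fst h f
  haveI : IsPreimmersion p := MorphismProperty.pullback_fst _ _ inferInstance
  have hF : (h.base ⁻¹' {genericPoint X}).Finite := by
    haveI : QuasiCompact (X.fromSpecResidueField (genericPoint X)) := inferInstance
    have hr : Set.range (pullback.fst h (X.fromSpecResidueField (genericPoint X))).base =
        h.base ⁻¹' {genericPoint X} := by
      rw [Scheme.Pullback.range_fst, Scheme.range_fromSpecResidueField]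
    haveI := locallyQuasiFinite_of_etale h
    refine IsCompact.finite ?_ (h.isDiscrete_preimage_singleton _)
    rw [← hr]
    exact isCompact_range (pullback.fst h (X.fromSpecResidueField (genericPoint X))).continuous
  have key : ∀ C : Set ↥(pullback h f), IsOpen C → w ∈ closure (p.base '' C) →
      ∃ c ∈ C, h.base (p.base c) = genericPoint X ∧ p.base c ⤳ w := by
    intro C hC hw
    obtain ⟨O, hO, rfl⟩ := p.isEmbedding.isInducing.isOpen_iff.1 hC
    have h1 : p.base '' (p.base ⁻¹' O) ⊆ closure (O ∩ h.base ⁻¹' {genericPoint X}) := by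
      rintro _ ⟨c, hc, rfl⟩
      rw [mem_closure_iff]
      intro O' hO' hc'
      obtain ⟨v, hv, hvη⟩ := ((genericPoint_spec X).mem_open_set_iff
        (h.isOpenMap _ (hO.inter hO'))).2 ⟨h.base (p.base c), trivial, _, ⟨hc, hc'⟩, rfl⟩
      exact ⟨v, hv.2, hv.1, hvη⟩
    have h2 := closure_minimal h1 isClosed_closure hw
    rw [← Set.biUnion_of_singleton (O ∩ h.base ⁻¹' {genericPoint X}),
      (hF.inter_of_right O).closure_biUnion] at h2
    obtain ⟨q, ⟨hqO, hqη⟩, hq⟩ := Set.mem_iUnion₂.1 h2
    obtain ⟨z, hz⟩ := hη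
    obtain ⟨c, hc, -⟩ := Scheme.Pullback.exists_preimage_pullback (f := h) (g := f) q z
      ((Set.mem_singleton_iff.1 hqη).trans hz.symm)
    subst hc
    exact ⟨c, hqO, hqη, specializes_iff_mem_closure.2 hq⟩
  have hd : w ∈ closure (p.base '' Set.univ) := by
    rw [Set.image_univ, mem_closure_iff]
    intro O hO hw
    obtain ⟨v, hv, hxη⟩ := ((genericPoint_spec X).mem_open_set_iff (h.isOpenMap _ hO)).2
      ⟨h.base w, trivial, w, hw, rfl⟩
    obtain ⟨z, hz⟩ := hη
    obtain ⟨c, hc, -⟩ := Scheme.Pullback.exists_preimage_pullback (f := h) (g := f) v z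
      (hxη.trans hz.symm)
    exact ⟨v, hv, c, hc⟩
  obtain ⟨c₀, -, hq, hqw⟩ := key _ isOpen_univ hd
  refine ⟨c₀, fun C hC h₀ hw => ?_⟩
  obtain ⟨c, hc, hcη, hcw⟩ := key _ hC.compl.isOpen hw
  exact hc (p.isEmbedding.injective (genericPoint_unique h w _ hq hqw _ hcη hcw) ▸ h₀)

/-- Etale schemes over schemes with irreducible strict localizations have irreducible local schemes. -/
theorem irreducibleSpace_stalk
    (hX : ∀ (x : X) (R : Type u) [CommRing R] [IsLocalRing R] [Algebra (X.presheaf.stalk x) R]
      [IsLocalHom (algebraMap (X.presheaf.stalk x) R)] [Hensel.IsStrictHenselization (X.presheaf.stalk x) R],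
      IrreducibleSpace (PrimeSpectrum R))
    (W : Scheme.{u}) (h : W ⟶ X) [Etale h] (w : W) : IrreducibleSpace ↥(Spec (W.presheaf.stalk w)) := by
  have hgu : ∀ (Ω : Type u) [Field Ω] [IsSepClosed Ω] (ξ : Spec (CommRingCat.of Ω) ⟶ X) (x : X),
      H12AlgSp.EtStrictHens.imagePt ξ = x → CAlg2.IsGeomUnibranch (X.presheaf.stalk x) := by
    rintro Ω _ _ ξ _ rfl
    refine (H12AlgSp.etaleLocalRing_uniqueMinimal_iff ξ).1 ((H12AlgSp.hasUniqueMinimalPrime_iff _).2 ⟨inferInstance, fun a b hab => ?_⟩)
    haveI := H12AlgSp.EtStrictHens.isStrictHenselization ξ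
    exact (PrimeSpectrum.irreducibleSpace_iff_isPrime_nilradical.1
      (hX (H12AlgSp.EtStrictHens.imagePt ξ) ↥(EtBase.etaleLocalRing ξ))).mem_or_mem hab
  haveI : IsSepClosed (SeparableClosure (X.residueField (h w))) := SeparableClosure.isSepClosed _
  have hS := hgu _ (geomPt (h w)) (h w) (geomPt_base (h w))
  exact PrimeSpectrum.irreducibleSpace_iff_isPrime_nilradical.2 (H21Desc.isPrime_nilradical_stalk h w hS)

theorem unibranchAlong_residueField [IrreducibleSpace X]
    (hX : ∀ (x : X) (R : Type u) [CommRing R] [IsLocalRing R] [Algebra (X.presheaf.stalk x) R]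
      [IsLocalHom (algebraMap (X.presheaf.stalk x) R)] [Hensel.IsStrictHenselization (X.presheaf.stalk x) R],
      IrreducibleSpace (PrimeSpectrum R)) :
    UnibranchAlong (X.fromSpecResidueField (genericPoint X)) :=
  unibranchAlong_of_genericPoint (irreducibleSpace_stalk hX) _
    ((Scheme.range_fromSpecResidueField (genericPoint X)).ge rfl)

theorem denseRange_residueField [IrreducibleSpace X] :
    DenseRange (X.fromSpecResidueField (genericPoint X)).base := by
  show Dense (Set.range (X.fromSpecResidueField (genericPoint X)))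
  rw [Scheme.range_fromSpecResidueField, dense_iff_closure_eq]
  exact genericPoint_spec X

end Groth.Agent.H18UnibrConst
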